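import Groth.Agent.Lib.HTop26.Site

/-! Covering sieves of the h topology contain h coverings. -/

set_option autoImplicit false
set_option linter.style.haveILetI false
set_option linter.unusedSectionVars false
set_option backward.isDefEq.respectTransparency false
set_option backward.isDefEq.respectTransparency.types false

universe u

open CategoryTheory CategoryTheory.Limits AlgebraicGeometry Opposite TopologicalSpace

noncomputable section

namespace Groth.Agent.VRefine5

theorem exists_isHCover_of_mem {U : Scheme.{u}} (S : Sieve U) (hS : S ∈ HTop.hTopology U) :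
    ∃ E : PreZeroHypercover.{u + 1} U, HTop.IsHCover E ∧ ∀ i, S (E.f i) := by
  induction hS with
  | of X R hR =>
    obtain ⟨E, rfl⟩ := Presieve.exists_eq_preZeroHypercover R
    exact ⟨E, (HTop.presieve₀_mem_hPrecoverage_iff E).1 hR, fun i => Sieve.le_generate _ _ _ ⟨i⟩⟩
  | top X =>
    refine ⟨{ I₀ := PUnit.{u + 2}, X := fun _ => X, f := fun _ => 𝟙 X },
      ⟨fun _ => inferInstanceAs (LocallyOfFinitePresentation (𝟙 X)), fun U => ?_⟩, fun _ => trivial⟩
    haveI : IsAffine ((U : X.Opens) : Scheme.{u}) := U.2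
    refine ⟨{ I₀ := PUnit.{1}, X := fun _ => ((U : X.Opens) : Scheme.{u}), f := fun _ => 𝟙 _ },
      HTop26.isStandardV_of_isStandardPh ⟨inferInstance, inferInstanceAs (Finite PUnit.{1}), fun _ => U.2, _, 𝟙 _,
        fun _ => 𝟙 _, inferInstance, inferInstance, fun _ => inferInstance, fun _ => Category.id_comp _,
        fun x => ⟨PUnit.unit, x, rfl⟩⟩,
      fun _ => ⟨PUnit.unit, (U : X.Opens).ι, (Category.comp_id _).trans (Category.id_comp _).symm⟩⟩
  | pullback X S _ Y g ih =>
    obtain ⟨E, hE, hS⟩ := ih
    refine ⟨E.pullback₁ g, ⟨fun i => haveI := hE.1 i; inferInstanceAs (LocallyOfFinitePresentation (pullback.fst g (E.f i))),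
      HTop26.isVCover_pullback₁ g hE.2⟩, fun i => ?_⟩
    show S (pullback.fst g (E.f i) ≫ g)
    rw [pullback.condition]
    exact S.downward_closed (hS i) _
  | transitive X S R _ _ ih1 ih2 =>
    obtain ⟨E, hE, hS⟩ := ih1
    choose F hF hR using fun i => ih2 (hS i)
    exact ⟨E.bind F, ⟨fun i => haveI := hE.1 i.1; haveI := (hF i.1).1 i.2;
        inferInstanceAs (LocallyOfFinitePresentation (_ ≫ _)),
      HTop26.isVCover_bind hE.2 fun i => (hF i).2⟩, fun i => hR i.1 i.2⟩

end Groth.Agent.VRefine5

end
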