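import Groth.Agent.Lib.HTop26.VCover
import Groth.Agent.S7476
import Groth.Agent.S14782
import Groth.Prelude.Def_W4c2submetdescSubtr

/-!
# V coverings of finite presentation are refined by proper surjections and open coverings
-/

set_option autoImplicit false
set_option linter.style.haveILetI false
set_option linter.unusedSectionVars false
set_option backward.isDefEq.respectTransparency false
set_option backward.isDefEq.respectTransparency.types false

universe u w

open CategoryTheory CategoryTheory.Limits AlgebraicGeometry TopologicalSpace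

noncomputable section

namespace Groth.Agent.VRefine5

/-- A quasi-compact morphism which is a V covering is universally subtrusive. -/
theorem univSSubtrusive_of_isVCover {X Y : Scheme.{u}} (f : X ⟶ Y) [QuasiCompact f]
    (hf : HTop.IsVCover (PreZeroHypercover.singleton.{w} f)) : Subtr.UnivSSubtrusive f := by
  obtain ⟨h1, h2⟩ := Groth.Agent.S7476.result.{u, w, w, w} f
  intro X' Y' a b f' hsq z z' hzz'
  obtain ⟨w', w, hw, e1, e2⟩ := h2.1 (h1.1 hf) Y' b z' z hzz'
  let e := hsq.isoPullback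
  refine ⟨e.inv w, e.inv w', hw.map e.inv.continuous, ?_, ?_⟩
  · rw [← Scheme.Hom.comp_apply, hsq.isoPullback_inv_fst]
    exact e2
  · rw [← Scheme.Hom.comp_apply, hsq.isoPullback_inv_fst]
    exact e1

/-- A local isomorphism covering of a quasi-compact target gives affine opens with lifts into the members of a
family mapping to the source. -/
theorem exists_opens {ι : Type u} {Ω : ι → Scheme.{u}} {X' Y' : Scheme.{u}} [CompactSpace Y'] (p : X' ⟶ Y')
    [Surjective p] (hp : ∀ x : X', ∃ U : X'.Opens, x ∈ U ∧ IsOpenImmersion (U.ι ≫ p)) (h : X' ⟶ ∐ Ω) :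
    ∃ (n : ℕ) (V : Fin n → Y'.Opens), (∀ j, IsAffineOpen (V j)) ∧ ⨆ j, V j = ⊤ ∧
      ∀ j, ∃ (i : ι) (s : (V j).toScheme ⟶ X') (t : (V j).toScheme ⟶ Ω i),
        s ≫ p = (V j).ι ∧ t ≫ Sigma.ι Ω i = s ≫ h := by
  have key : ∀ y : Y', ∃ V : Y'.Opens, IsAffineOpen V ∧ y ∈ V ∧
      ∃ (i : ι) (s : V.toScheme ⟶ X') (t : V.toScheme ⟶ Ω i), s ≫ p = V.ι ∧ t ≫ Sigma.ι Ω i = s ≫ h := by
    intro y
    obtain ⟨x, rfl⟩ := p.surjective y
    obtain ⟨U, hxU, hU⟩ := hp x
    haveI := hU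
    obtain ⟨i, e, he⟩ := (sigmaOpenCover Ω).exists_eq (h x)
    let j := U.ι ≫ p
    let D : U.toScheme.Opens := U.ι ⁻¹ᵁ (h ⁻¹ᵁ (Sigma.ι Ω i).opensRange)
    have hmem : p x ∈ j ''ᵁ D := ⟨⟨x, hxU⟩, ⟨e, he⟩, rfl⟩
    obtain ⟨V, hV, hyV, hle⟩ := exists_isAffineOpen_mem_and_subset hmem
    have hrange : Set.range V.ι ⊆ Set.range j := by
      rw [Scheme.Opens.range_ι]
      rintro _ hv
      obtain ⟨d, -, rfl⟩ := hle hv
      exact ⟨d, rfl⟩
    let s₀ := IsOpenImmersion.lift j V.ι hrange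
    have hs₀ : s₀ ≫ j = V.ι := IsOpenImmersion.lift_fac _ _ _
    have hD : ∀ v, s₀ v ∈ D := fun v => by
      obtain ⟨d, hd, hdv⟩ := hle v.2
      have : s₀ v = d := j.isOpenEmbedding.injective (by
        rw [← Scheme.Hom.comp_apply, hs₀]
        exact hdv.symm)
      rw [this]
      exact hd
    refine ⟨V, hV, hyV, i, s₀ ≫ U.ι,
      IsOpenImmersion.lift (Sigma.ι Ω i) ((s₀ ≫ U.ι) ≫ h) ?_, by rw [Category.assoc]; exact hs₀,
      IsOpenImmersion.lift_fac _ _ _⟩
    rintro _ ⟨v, rfl⟩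
    rw [Scheme.Hom.comp_apply, Scheme.Hom.comp_apply]
    exact hD v
  choose V hV hyV hlift using key
  obtain ⟨t, ht⟩ := (isCompact_univ (X := Y')).elim_finite_subcover (fun y => (V y : Set Y'))
    (fun y => (V y).2) fun y _ => Set.mem_iUnion.2 ⟨y, hyV y⟩
  let e := (Fintype.equivFin t).symm
  refine ⟨Fintype.card t, fun k => V (e k).1, fun k => hV _, ?_, fun k => hlift _⟩
  refine top_le_iff.1 fun y _ => Opens.mem_iSup.2 ?_
  obtain ⟨y', hy', hmem⟩ := Set.mem_iUnion₂.1 (ht (Set.mem_univ y))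
  exact ⟨e.symm ⟨y', hy'⟩, by show y ∈ V (e (e.symm ⟨y', hy'⟩)).1; rw [Equiv.apply_symm_apply]; exact hmem⟩

/-- Over an affine base a V covering of finite presentation is refined by a proper surjection of finite
presentation and finitely many affine opens. -/
theorem exists_refinement {X T : Scheme.{u}} [IsAffine T] (g : T ⟶ X) (E : PreZeroHypercover.{w} X)
    (hE : ∀ i, LocallyOfFinitePresentation (E.f i)) (hV : HTop.IsVCover E) :
    ∃ (Y : Scheme.{u}) (q : Y ⟶ T) (n : ℕ) (V : Fin n → Y.Opens), IsProper q ∧ Surjective q ∧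
      LocallyOfFinitePresentation q ∧ (∀ j, IsAffineOpen (V j)) ∧ ⨆ j, V j = ⊤ ∧
      ∀ j, ∃ (i : E.I₀) (h : (V j).toScheme ⟶ E.X i), h ≫ E.f i = (V j).ι ≫ q ≫ g := by
  classical
  obtain ⟨F, hF, hR⟩ := HTop26.IsVCover.exists_isStandardV hV g
  haveI := hF.finite_index
  choose i h hh using hR
  -- the base change of the members
  let P : F.I₀ → Scheme.{u} := fun j => pullback (E.f (i j)) g
  let a : ∀ j, F.X j ⟶ P j := fun j => pullback.lift (h j) (F.f j) (hh j)
  haveI := hF.isAffine_obj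
  have hΩ : ∀ j, ∃ t : Finset (P j).affineOpens, Set.range (a j) ⊆ ⋃ U ∈ t, ((U : (P j).Opens) : Set (P j)) := fun j => by
    obtain ⟨t, ht⟩ := (isCompact_range (a j).continuous).elim_finite_subcover
      (fun U : (P j).affineOpens => ((U : (P j).Opens) : Set (P j))) (fun U => (U : (P j).Opens).2) fun y _ => by
        obtain ⟨U, hU, hy, -⟩ := exists_isAffineOpen_mem_and_subset (U := ⊤) (Opens.mem_top y)
        exact Set.mem_iUnion.2 ⟨⟨U, hU⟩, hy⟩
    exact ⟨t, ht⟩
  choose t ht using hΩ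
  let σ : Type u := ULift.{u} F.I₀
  let κ : Type u := Σ j : σ, t j.down
  let Ω : κ → Scheme.{u} := fun k => (k.2.1 : (P k.1.down).Opens).toScheme
  haveI : ∀ k, IsAffine (Ω k) := fun k => k.2.1.2
  let φ : ∀ k, Ω k ⟶ T := fun k => (k.2.1 : (P k.1.down).Opens).ι ≫ pullback.snd _ _
  haveI : ∀ k, LocallyOfFinitePresentation (φ k) := fun k => by
    haveI := hE (i k.1.down)
    exact inferInstanceAs (LocallyOfFinitePresentation (_ ≫ _))
  let f : ∐ Ω ⟶ T := Sigma.desc φ
  haveI : LocallyOfFinitePresentation f := IsZariskiLocalAtSource.sigmaDesc (fun k => inferInstance)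
  haveI : IsAffineHom f := inferInstance
  -- it is a V covering
  let E' : PreZeroHypercover.{u} T := { I₀ := κ, X := Ω, f := φ }
  let F' : PreZeroHypercover.{u} T := { I₀ := σ, X := fun j => F.X j.down, f := fun j => F.f j.down }
  let O : ∀ j : σ, PreZeroHypercover.{u} (F.X j.down) := fun j =>
    { I₀ := t j.down
      X := fun U => (a j.down ⁻¹ᵁ (U.1 : (P j.down).Opens)).toScheme
      f := fun U => (a j.down ⁻¹ᵁ (U.1 : (P j.down).Opens)).ι }
  have hVF : HTop.IsVCover F' := HTop26.isVCover_of_refines (E := F) (fun U => by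
      haveI : IsAffine ((U : T.Opens) : Scheme.{u}) := U.2
      exact ⟨F.pullback₁ (U : T.Opens).ι, HTop26.isStandardV_pullback₁ _ hF, HTop26.refinesOver_pullback₁_self _ F⟩)
    fun j => ⟨⟨j⟩, 𝟙 _, (Category.id_comp _).trans (Category.comp_id _).symm⟩
  have hVO : ∀ j, HTop.IsVCover (O j) := fun j => by
    have hmem : (O j).presieve₀ ∈ Scheme.precoverage @IsOpenImmersion (F.X j.down) := by
      refine (Scheme.ofArrows_mem_precoverage_iff _).2 ⟨fun x => ?_, fun U => inferInstanceAs (IsOpenImmersion (Scheme.Opens.ι _))⟩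
      obtain ⟨U, hU, hxU⟩ := Set.mem_iUnion₂.1 (ht j.down ⟨x, rfl⟩)
      exact ⟨⟨U, hU⟩, ⟨x, hxU⟩, rfl⟩
    let 𝒰 : (F.X j.down).OpenCover := { toPreZeroHypercover := O j, mem₀ := hmem }
    haveI : QuasiCompactCover (O j) := QuasiCompactCover.of_isOpenMap (𝒰 := 𝒰) fun U => (Scheme.Opens.ι _).isOpenEmbedding.isOpenMap
    exact HTop26.isVCover_of_flat fun U => inferInstanceAs (Flat (Scheme.Opens.ι _))
  have hVE' : HTop.IsVCover E' := HTop26.isVCover_of_refines (HTop26.isVCover_bind hVF hVO) fun jl => by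
    obtain ⟨j, U⟩ := jl
    refine ⟨⟨j, U⟩, (a j.down).resLE _ _ le_rfl, ?_⟩
    show (a j.down).resLE _ _ le_rfl ≫ (U.1 : (P j.down).Opens).ι ≫ pullback.snd _ _ = (_ ≫ F.f j.down) ≫ 𝟙 T
    rw [Scheme.Hom.resLE_comp_ι_assoc, pullback.lift_snd, Category.comp_id]
  obtain ⟨X', Y', h', p, q, hpq, hps, -, hploc, hq, hqs, hqfp⟩ := Groth.Agent.S14782.result f (Or.inl ‹_›)
    (univSSubtrusive_of_isVCover f (HTop26.isVCover_singleton_sigmaDesc hVE'))
  haveI := hq
  haveI : CompactSpace Y' := QuasiCompact.compactSpace_of_compactSpace q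
  obtain ⟨n, V, hVa, hsup, hlift⟩ := exists_opens p hploc h'
  refine ⟨Y', q, n, V, hq, hqs, hqfp, hVa, hsup, fun j => ?_⟩
  obtain ⟨k, s, t', hs, ht'⟩ := hlift j
  refine ⟨i k.1.down, t' ≫ (k.2.1 : (P k.1.down).Opens).ι ≫ pullback.fst _ _, ?_⟩
  have e : t' ≫ φ k = (V j).ι ≫ q := by
    rw [← show Sigma.ι Ω k ≫ f = φ k from Sigma.ι_desc _ _, reassoc_of% ht', hpq, reassoc_of% hs]
  rw [← reassoc_of% e]
  simp only [φ, Category.assoc, pullback.condition]

end Groth.Agent.VRefine5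

end
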